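import Mathlib
import Groth.Prelude.Def_SGA3
import Groth.Agent.Comod.Coalg
import Groth.Agent.Comod.Matrix

/-!
# Finitely generated sub-Hopf-algebras, joins and directed unions
-/

set_option autoImplicit false
universe u v

open TensorProduct WithConv

namespace Groth.Agent.HopfPts

variable {k : Type u} [Field k] {A : Type u} [CommRing A]

section
variable [Algebra k A]

/-- elements whose image in `A ⊗ A` lies in `S ⊗ S` -/
theorem adjoin_le_comap (f : A →ₐ[k] A ⊗[k] A) (s : Set A) (T : Subalgebra k A)
    (h : ∀ x ∈ s, f x ∈ LinearMap.range (TensorProduct.map T.val.toLinearMap T.val.toLinearMap)) :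
    ∀ x ∈ Algebra.adjoin k s,
      f x ∈ LinearMap.range (TensorProduct.map T.val.toLinearMap T.val.toLinearMap) := by
  have h' : Algebra.adjoin k s ≤ ((Algebra.TensorProduct.map T.val T.val).range.comap f) :=
    Algebra.adjoin_le fun x hx => by
      obtain ⟨z, hz⟩ := h x hx
      exact ⟨z, hz⟩
  intro x hx
  obtain ⟨z, hz⟩ := h' hx
  exact ⟨z, hz⟩

end

variable [HopfAlgebra k A]

theorem antipode_antipode (x : A) :
    HopfAlgebra.antipode k (HopfAlgebra.antipode k x) = x := by
  let S := HopfAlgebra.antipodeAlgHom k A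
  have h : toConv S * toConv (AlgHom.id k A) = 1 := AlgHom.antipode_id_cancel
  have h' : toConv (S.comp S) * toConv S = 1 := by
    apply WithConv.ofConv_injective
    have e := congrArg (fun q => S.comp (WithConv.ofConv q)) h
    simp only [AlgHom.comp_convMul_distrib, ofConv_toConv, AlgHom.comp_id] at e
    exact e.trans (AlgHom.ext fun a => S.commutes _)
  exact AlgHom.congr_fun (congrArg WithConv.ofConv (left_inv_eq_right_inv h' h)) x

/-- A subalgebra generated by a set `s` is a sub-Hopf-algebra as soon as `Δ` and `S` map `s` into it. -/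
theorem isHopf_adjoin (s : Set A)
    (hc : ∀ x ∈ s, Coalgebra.comul (R := k) x ∈ LinearMap.range
      (TensorProduct.map (Algebra.adjoin k s).val.toLinearMap (Algebra.adjoin k s).val.toLinearMap))
    (ha : ∀ x ∈ s, HopfAlgebra.antipode k x ∈ Algebra.adjoin k s) :
    SGA3.IsHopfSubalgebra k A (Algebra.adjoin k s) := by
  refine ⟨adjoin_le_comap (Bialgebra.comulAlgHom k A) s _ hc, ?_⟩
  have h : Algebra.adjoin k s ≤ (Algebra.adjoin k s).comap (HopfAlgebra.antipodeAlgHom k A) :=
    Algebra.adjoin_le ha
  exact fun b hb => h hb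

theorem range_map_mono {S T : Subalgebra k A} (h : S ≤ T) :
    LinearMap.range (TensorProduct.map S.val.toLinearMap S.val.toLinearMap) ≤
      LinearMap.range (TensorProduct.map T.val.toLinearMap T.val.toLinearMap) := by
  have : TensorProduct.map S.val.toLinearMap S.val.toLinearMap =
      TensorProduct.map T.val.toLinearMap T.val.toLinearMap ∘ₗ
        TensorProduct.map (Subalgebra.inclusion h).toLinearMap (Subalgebra.inclusion h).toLinearMap := by
    rw [← TensorProduct.map_comp]
    rfl
  rw [this]
  exact LinearMap.range_comp_le_range _ _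

theorem isHopf_adjoin_iUnion {ι : Sort*} (B : ι → Subalgebra k A)
    (hB : ∀ i, SGA3.IsHopfSubalgebra k A (B i)) :
    SGA3.IsHopfSubalgebra k A (Algebra.adjoin k (⋃ i, (B i : Set A))) := by
  have hle : ∀ i, B i ≤ Algebra.adjoin k (⋃ i, (B i : Set A)) := fun i x hx =>
    Algebra.subset_adjoin (Set.mem_iUnion.2 ⟨i, hx⟩)
  refine isHopf_adjoin _ ?_ ?_
  · intro x hx
    obtain ⟨i, hi⟩ := Set.mem_iUnion.1 hx
    exact range_map_mono (hle i) ((hB i).1 x hi)
  · intro x hx
    obtain ⟨i, hi⟩ := Set.mem_iUnion.1 hx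
    exact hle i ((hB i).2 x hi)

theorem isHopf_sup {B C : Subalgebra k A} (hB : SGA3.IsHopfSubalgebra k A B)
    (hC : SGA3.IsHopfSubalgebra k A C) : SGA3.IsHopfSubalgebra k A (B ⊔ C) := by
  have h := isHopf_adjoin_iUnion (fun b : Bool => cond b B C) (by rintro (_ | _) <;> assumption)
  have e : Algebra.adjoin k (⋃ b : Bool, ((cond b B C : Subalgebra k A) : Set A)) = B ⊔ C := by
    rw [Algebra.sup_def, show (⋃ b : Bool, ((cond b B C : Subalgebra k A) : Set A)) = ↑B ∪ ↑C by
      ext x; simp [or_comm]]
  rwa [e] at h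

theorem isHopf_bot : SGA3.IsHopfSubalgebra k A (⊥ : Subalgebra k A) := by
  have h := isHopf_adjoin (k := k) (A := A) ∅ (by simp) (by simp)
  rwa [Algebra.adjoin_empty] at h

/-- Every finite set lies in a finitely generated sub-Hopf-algebra. -/
theorem exists_fg_of_finite (s : Set A) (hs : s.Finite) :
    ∃ C : Subalgebra k A, SGA3.IsHopfSubalgebra k A C ∧ C.FG ∧ s ⊆ C := by
  classical
  choose W hWfin hW hWsub using fun c : A => Comod.exists_finite_subcoalg (k := k) c
  have := hs.to_subtype
  let U : Submodule k A := ⨆ c : s, W c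
  have : ∀ c : s, Module.Finite k (W c) := fun c => hWfin c
  have : Module.Finite k U := inferInstance
  obtain ⟨t, ht⟩ : U.FG := Module.Finite.iff_fg.mp inferInstance
  let g : Set A := ↑t ∪ HopfAlgebra.antipode k '' ↑t
  let C := Algebra.adjoin k g
  have hUC : U ≤ Subalgebra.toSubmodule C := by
    rw [← ht]
    exact Submodule.span_le.2 fun x hx => Algebra.subset_adjoin (Or.inl hx)
  have hcU : ∀ x ∈ U, Coalgebra.comul (R := k) x ∈
      LinearMap.range (TensorProduct.map C.val.toLinearMap C.val.toLinearMap) := by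
    intro x hx
    refine Submodule.iSup_induction _ (motive := fun x => Coalgebra.comul (R := k) x ∈
      LinearMap.range (TensorProduct.map C.val.toLinearMap C.val.toLinearMap)) hx
      (fun c y hy => ?_) (by rw [map_zero]; exact zero_mem _)
      (fun a b ha hb => by rw [map_add]; exact add_mem ha hb)
    obtain ⟨z, hz⟩ := hWsub c y hy
    have hle : W c ≤ Subalgebra.toSubmodule C := (le_iSup (fun c : s => W c) c).trans hUC
    refine ⟨TensorProduct.map (Submodule.inclusion hle) (Submodule.inclusion hle) z, ?_⟩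
    refine Eq.trans ?_ hz
    erw [← LinearMap.comp_apply, ← TensorProduct.map_comp]
    rfl
  refine ⟨C, isHopf_adjoin g ?_ ?_, Subalgebra.fg_def.2 ⟨g, ?_, rfl⟩, ?_⟩
  · rintro x (hx | ⟨x, hx, rfl⟩)
    · exact hcU x (ht ▸ Submodule.subset_span hx)
    · obtain ⟨z, hz⟩ := hcU x (ht ▸ Submodule.subset_span hx)
      have hS : ∀ y ∈ C, HopfAlgebra.antipode k y ∈ C := by
        have h : C ≤ C.comap (HopfAlgebra.antipodeAlgHom k A) := Algebra.adjoin_le (by
          rintro y (hy | ⟨y, hy, rfl⟩)
          · exact Algebra.subset_adjoin (Or.inr ⟨y, hy, rfl⟩)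
          · show HopfAlgebra.antipodeAlgHom k A (HopfAlgebra.antipode k y) ∈ C
            rw [show HopfAlgebra.antipodeAlgHom k A (HopfAlgebra.antipode k y) = y from antipode_antipode y]
            exact Algebra.subset_adjoin (Or.inl hy))
        exact fun y hy => h hy
      let σ : ↥C →ₗ[k] ↥C :=
        ((HopfAlgebra.antipode k (A := A)).comp C.val.toLinearMap).codRestrict (Subalgebra.toSubmodule C)
          fun y => hS y y.2
      rw [Comod.comul_antipode, ← hz]
      refine ⟨TensorProduct.comm k _ _ (TensorProduct.map σ σ z), ?_⟩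
      clear hz
      induction z using TensorProduct.induction_on with
      | zero => simp
      | tmul a b => rfl
      | add a b ha hb => simp only [map_add, ha, hb]
  · rintro x (hx | ⟨x, hx, rfl⟩)
    · exact Algebra.subset_adjoin (Or.inr ⟨x, hx, rfl⟩)
    · rw [antipode_antipode]
      exact Algebra.subset_adjoin (Or.inl hx)
  · exact t.finite_toSet.union (t.finite_toSet.image _)
  · intro c hc
    exact hUC (le_iSup (fun c : s => W c) ⟨c, hc⟩ (hW c))

end Groth.Agent.HopfPts
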