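import Groth.Agent.HopfPts.Extend
import Groth.Agent.HopfSub.Basic
import Groth.Agent.Comod.CartierRed

/-!
# Characteristic zero: Hopf algebras are reduced, rational points separate functions
-/

set_option autoImplicit false
set_option linter.style.haveILetI false
universe u v

open TensorProduct

namespace Groth.Agent.HopfPts

theorem isReduced_of_charZero' {k : Type u} [Field k] [CharZero k] {A : Type u} [CommRing A]
    [HopfAlgebra k A] : _root_.IsReduced A := by
  refine ⟨fun a ha => ?_⟩
  obtain ⟨C, hC, hCfg, haC⟩ := exists_fg_of_finite (k := k) {a} (Set.finite_singleton a)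
  letI := Groth.Agent.HopfSub.hopfAlgebra hC
  haveI : Algebra.FiniteType k ↥C := (Subalgebra.fg_iff_finiteType C).1 hCfg
  haveI := Groth.Agent.Comod.isReduced_of_charZero k ↥C
  have h : IsNilpotent (⟨a, haC rfl⟩ : ↥C) := by
    obtain ⟨n, hn⟩ := ha
    exact ⟨n, Subtype.ext (by simpa using hn)⟩
  exact congrArg Subtype.val h.eq_zero

theorem exists_point_ne_zero_of_charZero {k : Type u} [Field k] [IsAlgClosed k] [CharZero k]
    {A : Type v} [CommRing A] [HopfAlgebra k A] {a : A} (ha : a ≠ 0) :
    ∃ g : A →ₐ[k] k, g a ≠ 0 := by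
  let k' := ULift.{v} k
  let e : k' ≃+* k := ULift.ringEquiv
  letI : Field k' := inferInstance
  haveI : IsAlgClosed k' := IsAlgClosed.of_exists_root k' fun p hp hirr => by
    obtain ⟨x, hx⟩ := IsAlgClosed.exists_root (p.map e.toRingHom)
      (by rw [Polynomial.degree_map]; exact (Polynomial.degree_pos_of_irreducible hirr).ne')
    refine ⟨e.symm x, e.injective ?_⟩
    rw [map_zero]
    show e.toRingHom (Polynomial.eval (e.symm x) p) = 0
    rw [← Polynomial.eval₂_hom, ← Polynomial.eval_map]
    simpa using hx
  haveI : CharZero k' := charZero_of_injective_ringHom (f := e.symm.toRingHom) e.symm.injective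
  let A' := k' ⊗[k] A
  have hne : ((1 : k') ⊗ₜ[k] a : A') ≠ 0 := by
    intro h
    refine ha ((Algebra.TensorProduct.includeRight_injective (R := k) (A := k') (B := A)
      e.symm.injective) ?_)
    simpa using h
  haveI : _root_.IsReduced A' := isReduced_of_charZero' (k := k')
  obtain ⟨y, hy⟩ := exists_point_ne_zero (k := k') (f := ((1 : k') ⊗ₜ[k] a : A'))
    (fun hn => hne hn.eq_zero)
  let d : k' →ₐ[k] k := { e.toRingHom with commutes' := fun _ => rfl }
  refine ⟨d.comp ((y.restrictScalars k).comp Algebra.TensorProduct.includeRight), fun h => hy ?_⟩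
  exact e.injective (h.trans (map_zero e).symm)

end Groth.Agent.HopfPts
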