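import Groth.Agent.HopfPts.Basic
import Groth.Agent.S4103

/-!
# Points of affine groups over an algebraically closed field
-/

set_option autoImplicit false
set_option linter.style.haveILetI false
universe u

open TensorProduct WithConv

namespace Groth.Agent.HopfPts

variable {k : Type u} [Field k] [IsAlgClosed k] {A : Type u} [CommRing A] [HopfAlgebra k A]

/-- A point of a sub-Hopf-algebra `B` extends to any bigger sub-Hopf-algebra finitely generated over it. -/
theorem exists_extend_step {B C : Subalgebra k A} (hB : SGA3.IsHopfSubalgebra k A B) (hC : C.FG)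
    (x : ↥B →ₐ[k] k) :
    ∃ y : ↥(B ⊔ C) →ₐ[k] k, ∀ (a : A) (ha : a ∈ B), y ⟨a, (le_sup_left : B ≤ B ⊔ C) ha⟩ = x ⟨a, ha⟩ := by
  haveI := Groth.Agent.S4103.result k A B hB
  let T := B ⊔ C
  let i : ↥B →ₐ[k] ↥T := Subalgebra.inclusion le_sup_left
  let I : Ideal ↥T := (RingHom.ker x).map i
  have hI : I ≠ ⊤ := by
    intro h
    have h1 : ((RingHom.ker x).map i).map T.val = ⊤ := by
      rw [show (RingHom.ker x).map i = I from rfl, h, Ideal.map_top]
    rw [Ideal.map_mapₐ] at h1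
    have h2 : (RingHom.ker x).map (algebraMap ↥B A) = ⊤ := h1
    have h3 := Ideal.comap_map_eq_self_of_faithfullyFlat (B := A) (RingHom.ker x)
    rw [h2, Ideal.comap_top] at h3
    exact RingHom.ker_ne_top x.toRingHom h3.symm
  obtain ⟨M, hM, hIM⟩ := Ideal.exists_le_maximal I hI
  let q : ↥T →ₐ[k] ↥T ⧸ M := Ideal.Quotient.mkₐ k M
  letI := Ideal.Quotient.field M
  let qC : ↥C →ₐ[k] ↥T ⧸ M := q.comp (Subalgebra.inclusion le_sup_right)
  have hqB : ∀ b : ↥B, q (i b) = algebraMap k _ (x b) := by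
    intro b
    have h : i b - algebraMap k ↥T (x b) ∈ M := hIM (by
      have : i (b - algebraMap k ↥B (x b)) ∈ I := Ideal.mem_map_of_mem _ (by simp [RingHom.mem_ker])
      simpa [AlgHom.commutes] using this)
    rw [← q.commutes]
    exact Ideal.Quotient.eq.2 h
  have hsurj : Function.Surjective qC := by
    intro z
    obtain ⟨⟨t, ht⟩, rfl⟩ := Ideal.Quotient.mk_surjective z
    suffices q ⟨t, ht⟩ ∈ qC.range from this
    revert ht
    show ∀ (ht : t ∈ T), q ⟨t, ht⟩ ∈ qC.range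
    intro ht
    have hle : T ≤ ((qC.range.comap q).map T.val) := by
      refine sup_le ?_ ?_
      · intro b hb
        refine ⟨i ⟨b, hb⟩, ?_, rfl⟩
        show q (i ⟨b, hb⟩) ∈ qC.range
        rw [hqB]
        exact qC.range.algebraMap_mem _
      · intro c hc
        exact ⟨Subalgebra.inclusion le_sup_right ⟨c, hc⟩, ⟨⟨c, hc⟩, rfl⟩, rfl⟩
    obtain ⟨w, hw, hwt⟩ := hle ht
    have : w = ⟨t, ht⟩ := Subtype.ext hwt
    exact this ▸ hw
  haveI : Algebra.FiniteType k ↥C := (Subalgebra.fg_iff_finiteType C).1 hC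
  haveI : Algebra.FiniteType k (↥T ⧸ M) := Algebra.FiniteType.of_surjective qC hsurj
  haveI : Module.Finite k (↥T ⧸ M) := finite_of_finite_type_of_isJacobsonRing k (↥T ⧸ M)
  let e : k ≃ₐ[k] (↥T ⧸ M) :=
    AlgEquiv.ofBijective (Algebra.ofId k (↥T ⧸ M)) IsAlgClosed.algebraMap_bijective_of_isIntegral
  refine ⟨e.symm.toAlgHom.comp q, fun a ha => ?_⟩
  show e.symm (q (i ⟨a, ha⟩)) = _
  rw [hqB]
  exact e.symm.commutes _

/-- Every point of a sub-Hopf-algebra of a commutative Hopf algebra over an algebraically closed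
field extends to a point of the whole Hopf algebra. -/
theorem exists_extend {B : Subalgebra k A} (hB : SGA3.IsHopfSubalgebra k A B) (x : ↥B →ₐ[k] k) :
    ∃ y : A →ₐ[k] k, ∀ b : ↥B, y b = x b := by
  classical
  let P : Set (Subalgebra k (A × k)) := {Γ | (∀ z ∈ Γ, z.1 = 0 → z.2 = 0) ∧
    SGA3.IsHopfSubalgebra k A (Γ.map (AlgHom.fst k A k)) ∧ ∀ b : ↥B, ((b : A), x b) ∈ Γ}
  let Γ₀ : Subalgebra k (A × k) := (B.val.prod x).range
  have hΓ₀ : Γ₀ ∈ P := by
    refine ⟨?_, ?_, fun b => ⟨b, rfl⟩⟩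
    · rintro _ ⟨b, rfl⟩ (hb : (b : A) = 0)
      show x b = 0
      rw [show b = 0 from Subtype.ext hb, map_zero]
    · have : Γ₀.map (AlgHom.fst k A k) = B := by
        show ((B.val.prod x).range).map _ = B
        rw [← AlgHom.range_comp, AlgHom.fst_prod, Subalgebra.range_val]
      rwa [this]
  obtain ⟨Γ, -, hmax⟩ := zorn_le_nonempty₀ P (fun c hc hchain Γ₁ hΓ₁ => by
    have hne : c.Nonempty := ⟨Γ₁, hΓ₁⟩
    haveI := hne.to_subtype
    have hdir : Directed (· ≤ ·) fun Γ : c => (Γ : Subalgebra k (A × k)) := hchain.directed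
    refine ⟨⨆ Γ : c, (Γ : Subalgebra k (A × k)), ⟨?_, ?_, fun b => ?_⟩, fun Γ hΓ => le_iSup (fun Γ : c => (Γ : Subalgebra k (A × k))) ⟨Γ, hΓ⟩⟩
    · intro z hz hz0
      rw [← SetLike.mem_coe, Subalgebra.coe_iSup_of_directed hdir] at hz
      obtain ⟨⟨Γ, hΓ⟩, hz⟩ := Set.mem_iUnion.1 hz
      exact (hc hΓ).1 z hz hz0
    · have e : (⨆ Γ : c, (Γ : Subalgebra k (A × k))).map (AlgHom.fst k A k) =
          Algebra.adjoin k (⋃ Γ : c, (((Γ : Subalgebra k (A × k)).map (AlgHom.fst k A k) : Subalgebra k A) : Set A)) := by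
        rw [Algebra.adjoin_iUnion]
        simp only [Algebra.adjoin_eq]
        exact (Subalgebra.gc_map_comap (AlgHom.fst k A k)).l_iSup
      rw [e]
      exact isHopf_adjoin_iUnion _ fun Γ => (hc Γ.2).2.1
    · exact le_iSup (fun Γ : c => (Γ : Subalgebra k (A × k))) ⟨Γ₁, hΓ₁⟩ ((hc hΓ₁).2.2 b)) Γ₀ hΓ₀
  obtain ⟨⟨h1, h2, h3⟩, hmaxl⟩ := hmax
  let π : ↥Γ →ₐ[k] A := (AlgHom.fst k A k).comp Γ.val
  have hπinj : Function.Injective π := by
    intro a b hab
    have hd : ((a : A × k) - b).1 = 0 := by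
      rw [Prod.fst_sub]; exact sub_eq_zero.2 hab
    have := h1 _ (sub_mem a.2 b.2) hd
    exact Subtype.ext (Prod.ext hab (sub_eq_zero.1 (by simpa using this)))
  set C := Γ.map (AlgHom.fst k A k) with hCdef
  have hπr : π.range = C := by
    show ((AlgHom.fst k A k).comp Γ.val).range = C
    rw [AlgHom.range_comp, Subalgebra.range_val]
  let eC : ↥Γ ≃ₐ[k] ↥C := (AlgEquiv.ofInjective π hπinj).trans (Subalgebra.equivOfEq _ _ hπr)
  let xC : ↥C →ₐ[k] k := ((AlgHom.snd k A k).comp Γ.val).comp eC.symm.toAlgHom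
  have hxC : ∀ c : ↥C, ((c : A), xC c) ∈ Γ := by
    intro c
    have h : ((eC.symm c : ↥Γ) : A × k).1 = c := by
      have := eC.apply_symm_apply c
      exact congrArg Subtype.val this
    have hm := (eC.symm c).2
    have e : ((eC.symm c : ↥Γ) : A × k) = ((c : A), xC c) := Prod.ext h rfl
    rwa [e] at hm
  have htop : ∀ a : A, a ∈ C := by
    intro a
    obtain ⟨D, hD, hDfg, haD⟩ := exists_fg_of_finite (k := k) {a} (Set.finite_singleton a)
    obtain ⟨y, hy⟩ := exists_extend_step h2 hDfg xC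
    let Γ' : Subalgebra k (A × k) := ((C ⊔ D).val.prod y).range
    have hle : Γ ≤ Γ' := by
      intro z hz
      have hzC : z.1 ∈ C := ⟨z, hz, rfl⟩
      refine ⟨⟨z.1, (le_sup_left : C ≤ C ⊔ D) hzC⟩, Prod.ext rfl ?_⟩
      show y _ = z.2
      rw [hy _ hzC]
      have := h1 _ (sub_mem (hxC ⟨z.1, hzC⟩) hz) (by simp)
      exact sub_eq_zero.1 (by simpa using this)
    have hmem : Γ' ∈ P := by
      refine ⟨?_, ?_, fun b => hle (h3 b)⟩
      · rintro _ ⟨b, rfl⟩ (hb : (b : A) = 0)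
        show y b = 0
        rw [show b = 0 from Subtype.ext hb, map_zero]
      · have : Γ'.map (AlgHom.fst k A k) = C ⊔ D := by
          show (((C ⊔ D).val.prod y).range).map _ = _
          rw [← AlgHom.range_comp, AlgHom.fst_prod, Subalgebra.range_val]
        rw [this]
        exact isHopf_sup h2 hD
    have hle' := hmaxl hmem hle
    exact ⟨((a : A), y ⟨a, (le_sup_right : D ≤ C ⊔ D) (haD rfl)⟩), hle' ⟨⟨a, (le_sup_right : D ≤ C ⊔ D) (haD rfl)⟩, rfl⟩, rfl⟩
  refine ⟨xC.comp ((AlgHom.id k A).codRestrict C htop), fun b => ?_⟩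
  have hbC : (b : A) ∈ C := htop _
  have := h1 _ (sub_mem (hxC ⟨b, hbC⟩) (h3 b)) (by simp)
  show xC ⟨(b : A), hbC⟩ = x b
  exact sub_eq_zero.1 (by simpa using this)

/-- An element not nilpotent is nonzero at some rational point. -/
theorem exists_point_ne_zero {f : A} (hf : ¬ IsNilpotent f) : ∃ y : A →ₐ[k] k, y f ≠ 0 := by
  obtain ⟨C, hC, hCfg, hfC⟩ := exists_fg_of_finite (k := k) {f} (Set.finite_singleton f)
  haveI : Algebra.FiniteType k ↥C := (Subalgebra.fg_iff_finiteType C).1 hCfg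
  haveI : IsJacobsonRing ↥C := isJacobsonRing_of_finiteType (A := k) (B := ↥C)
  have hn : (⟨f, hfC rfl⟩ : ↥C) ∉ (⊥ : Ideal ↥C).jacobson := by
    rw [Ideal.radical_eq_jacobson (I := (⊥ : Ideal ↥C)) |>.symm, Ideal.mem_radical_iff]
    rintro ⟨n, hn⟩
    exact hf ⟨n, congrArg Subtype.val (Ideal.mem_bot.1 hn)⟩
  rw [Ideal.jacobson, Ideal.mem_sInf] at hn
  push_neg at hn
  obtain ⟨M, ⟨-, hM⟩, hfM⟩ := hn
  letI := Ideal.Quotient.field M
  haveI : Module.Finite k (↥C ⧸ M) := finite_of_finite_type_of_isJacobsonRing k (↥C ⧸ M)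
  let e : k ≃ₐ[k] (↥C ⧸ M) :=
    AlgEquiv.ofBijective (Algebra.ofId k (↥C ⧸ M)) IsAlgClosed.algebraMap_bijective_of_isIntegral
  obtain ⟨y, hy⟩ := exists_extend hC (e.symm.toAlgHom.comp (Ideal.Quotient.mkₐ k M))
  refine ⟨y, fun h0 => hfM ?_⟩
  have := hy ⟨f, hfC rfl⟩
  rw [h0] at this
  have h' : e.symm (Ideal.Quotient.mk M ⟨f, hfC rfl⟩) = 0 := this.symm
  exact Ideal.Quotient.eq_zero_iff_mem.1 (e.symm.injective (h'.trans (map_zero _).symm))

end Groth.Agent.HopfPts
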