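import Groth.Agent.HopfPts.Extend
import Groth.Agent.HopfSub.Basic
import Mathlib.RingTheory.RingHom.FiniteType

/-!
# Torsors under affine groups over algebraically closed fields have rational points

`R` is an algebra with a coaction `ρ` of the Hopf algebra `A`, given through its effect on points.
-/

set_option autoImplicit false
set_option linter.style.haveILetI false
universe u

open TensorProduct WithConv Algebra.TensorProduct

namespace Groth.Agent.HopfPts

variable {k : Type u} [Field k] {A : Type u} [CommRing A] [HopfAlgebra k A]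
  {R : Type u} [CommRing R] [Algebra k R]

/-- The action on points of a coaction. -/
noncomputable def actPts (ρ : R →ₐ[k] A ⊗[k] R) {D : Type u} [CommRing D] [Algebra k D]
    (g : A →ₐ[k] D) (p : R →ₐ[k] D) : R →ₐ[k] D :=
  (Algebra.TensorProduct.lift g p fun _ _ => Commute.all _ _).comp ρ

/-- A coaction making `R` a torsor on points. -/
structure IsCotorsor (ρ : R →ₐ[k] A ⊗[k] R) : Prop where
  assoc : ∀ (D : Type u) [CommRing D] [Algebra k D] (g h : A →ₐ[k] D) (p : R →ₐ[k] D),
    actPts ρ g (actPts ρ h p) = actPts ρ (toConv g * toConv h).ofConv p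
  diff : ∀ (D : Type u) [CommRing D] [Algebra k D] (p q : R →ₐ[k] D),
    ∃! g : A →ₐ[k] D, actPts ρ g p = q

variable (ρ : R →ₐ[k] A ⊗[k] R)

/-- The part of `R` belonging to a sub-Hopf-algebra. -/
noncomputable def part (B : Subalgebra k A) : Subalgebra k R :=
  (Algebra.TensorProduct.map B.val (AlgHom.id k R)).range.comap ρ

variable {K : Type u} [Field K] [Algebra k K] (r₀ : R →ₐ[k] K)

noncomputable def orbit : R →ₐ[k] A ⊗[k] K :=
  (Algebra.TensorProduct.map (AlgHom.id k A) r₀).comp ρ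

noncomputable def orbitK : R ⊗[k] K →ₐ[k] A ⊗[k] K :=
  Algebra.TensorProduct.lift (orbit ρ r₀) includeRight fun _ _ => Commute.all _ _

theorem orbit_eq_actPts : orbit ρ r₀ =
    actPts ρ (includeLeft : A →ₐ[k] A ⊗[k] K) (includeRight.comp r₀) :=
  congrArg (fun f => AlgHom.comp f ρ) (Algebra.TensorProduct.ext' fun a r => by simp)

theorem bijective_orbitK (h : IsCotorsor ρ) : Function.Bijective (orbitK ρ r₀) := by
  obtain ⟨g₀, hg₀, -⟩ := h.diff (R ⊗[k] K) (includeRight.comp r₀) includeLeft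
  let ψ : A ⊗[k] K →ₐ[k] R ⊗[k] K :=
    Algebra.TensorProduct.lift g₀ includeRight fun _ _ => Commute.all _ _
  have h1 : ψ.comp (orbitK ρ r₀) = AlgHom.id k _ := by
    refine Algebra.TensorProduct.ext ?_ ?_
    · refine Eq.trans ?_ hg₀
      refine AlgHom.ext fun r => ?_
      show ψ (orbitK ρ r₀ (r ⊗ₜ 1)) = _
      simp only [orbitK, lift_tmul, map_one, _root_.mul_one]
      show ψ (Algebra.TensorProduct.map (AlgHom.id k A) r₀ (ρ r)) = actPts ρ g₀ (includeRight.comp r₀) r
      show _ = Algebra.TensorProduct.lift g₀ (includeRight.comp r₀) (fun _ _ => Commute.all _ _) (ρ r)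
      exact AlgHom.congr_fun (Algebra.TensorProduct.ext' fun a x => by simp [ψ] :
        ψ.comp (Algebra.TensorProduct.map (AlgHom.id k A) r₀) =
          Algebra.TensorProduct.lift g₀ (includeRight.comp r₀) fun _ _ => Commute.all _ _) (ρ r)
    · exact AlgHom.ext fun c => by simp [ψ, orbitK]
  have h2 : (orbitK ρ r₀).comp ψ = AlgHom.id k _ := by
    have e : (orbitK ρ r₀).comp g₀ = includeLeft := by
      refine (h.diff (A ⊗[k] K) (includeRight.comp r₀) (orbit ρ r₀)).unique ?_
        (orbit_eq_actPts ρ r₀).symm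
      have := congrArg (fun f => (orbitK ρ r₀).comp f) hg₀
      refine Eq.trans ?_ (this.trans (AlgHom.ext fun r => by simp [orbitK]))
      refine AlgHom.ext fun r => ?_
      show Algebra.TensorProduct.lift ((orbitK ρ r₀).comp g₀) (includeRight.comp r₀) (fun _ _ => Commute.all _ _) (ρ r) = orbitK ρ r₀ (Algebra.TensorProduct.lift g₀ (includeRight.comp r₀) (fun _ _ => Commute.all _ _) (ρ r))
      exact AlgHom.congr_fun (Algebra.TensorProduct.ext' fun a x => by simp [orbitK] :
        (Algebra.TensorProduct.lift ((orbitK ρ r₀).comp g₀) (includeRight.comp r₀) fun _ _ => Commute.all _ _) =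
          (orbitK ρ r₀).comp (Algebra.TensorProduct.lift g₀ (includeRight.comp r₀) fun _ _ => Commute.all _ _)) (ρ r)
    refine Algebra.TensorProduct.ext ?_ ?_
    · refine Eq.trans ?_ e
      exact AlgHom.ext fun a => by simp [ψ, ← Algebra.TensorProduct.one_def]
    · exact AlgHom.ext fun c => by simp [ψ, orbitK]
  exact ⟨fun x y hxy => (AlgHom.congr_fun h1 x).symm.trans ((congrArg ψ hxy).trans (AlgHom.congr_fun h1 y)),
    fun z => ⟨ψ z, AlgHom.congr_fun h2 z⟩⟩

theorem orbit_mem {B : Subalgebra k A} {r : R} (hr : r ∈ part ρ B) :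
    orbit ρ r₀ r ∈ (Algebra.TensorProduct.map B.val (AlgHom.id k K)).range := by
  obtain ⟨z, hz⟩ := hr
  refine ⟨Algebra.TensorProduct.map (AlgHom.id k ↥B) r₀ z, ?_⟩
  show _ = Algebra.TensorProduct.map (AlgHom.id k A) r₀ (ρ r)
  have hz' : Algebra.TensorProduct.map B.val (AlgHom.id k R) z = ρ r := hz
  rw [← hz']
  exact AlgHom.congr_fun (Algebra.TensorProduct.ext' fun a x => by simp :
    (Algebra.TensorProduct.map B.val (AlgHom.id k K)).comp (Algebra.TensorProduct.map (AlgHom.id k ↥B) r₀) =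
      (Algebra.TensorProduct.map (AlgHom.id k A) r₀).comp (Algebra.TensorProduct.map B.val (AlgHom.id k R))) z

/-- `K ⊗ B` comes from the part of `R` belonging to `B`. -/
theorem exists_part_tensor (h : IsCotorsor ρ) {B : Subalgebra k A} (hB : SGA3.IsHopfSubalgebra k A B)
    (z : ↥B ⊗[k] K) : ∃ w : ↥(part ρ B) ⊗[k] K,
      orbitK ρ r₀ (Algebra.TensorProduct.map (part ρ B).val (AlgHom.id k K) w) =
        Algebra.TensorProduct.map B.val (AlgHom.id k K) z := by
  obtain ⟨w, hw⟩ := (bijective_orbitK ρ r₀ h).2 (Algebra.TensorProduct.map B.val (AlgHom.id k K) z)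
  let Q := A ⧸ Subalgebra.toSubmodule B
  let mQ : A →ₗ[k] Q := (Subalgebra.toSubmodule B).mkQ
  let l : R →ₗ[k] Q ⊗[k] R := mQ.rTensor R ∘ₗ ρ.toLinearMap
  have hker : LinearMap.ker l = Subalgebra.toSubmodule (part ρ B) := by
    ext r
    have hex := rTensor_exact R (f := (Subalgebra.toSubmodule B).subtype) (g := mQ)
      (LinearMap.exact_subtype_mkQ _) (Submodule.mkQ_surjective _)
    exact hex (ρ r)
  suffices hlw : l.rTensor K w = 0 by
    have hex : Function.Exact (Subalgebra.toSubmodule (part ρ B)).subtype l := by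
      intro x
      rw [← LinearMap.mem_ker, hker]
      constructor
      · intro hx
        exact ⟨⟨x, hx⟩, rfl⟩
      · rintro ⟨y, rfl⟩
        exact y.2
    obtain ⟨w', hw'⟩ := (Module.Flat.rTensor_exact K hex w).1 hlw
    refine ⟨w', ?_⟩
    rw [← hw, ← hw']
    rfl
  let F₁ : R ⊗[k] K →ₐ[k] A ⊗[k] (A ⊗[k] K) :=
    (Algebra.TensorProduct.map (AlgHom.id k A) (orbitK ρ r₀)).comp
      ((Algebra.TensorProduct.assoc k k k A R K).toAlgHom.comp
        (Algebra.TensorProduct.map ρ (AlgHom.id k K)))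
  let F₂ : R ⊗[k] K →ₐ[k] A ⊗[k] (A ⊗[k] K) :=
    ((Algebra.TensorProduct.assoc k k k A A K).toAlgHom.comp
        (Algebra.TensorProduct.map (Bialgebra.comulAlgHom k A) (AlgHom.id k K))).comp (orbitK ρ r₀)
  have hF : F₁ = F₂ := by
    refine Algebra.TensorProduct.ext ?_ ?_
    · let g₀ : A →ₐ[k] A ⊗[k] (A ⊗[k] K) := includeLeft
      let h₀ : A →ₐ[k] A ⊗[k] (A ⊗[k] K) := includeRight.comp includeLeft
      let p₀ : R →ₐ[k] A ⊗[k] (A ⊗[k] K) := includeRight.comp (includeRight.comp r₀)
      have e := h.assoc (A ⊗[k] (A ⊗[k] K)) g₀ h₀ p₀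
      refine Eq.trans ?_ (e.trans ?_)
      · refine AlgHom.ext fun r => ?_
        show F₁ (r ⊗ₜ 1) = Algebra.TensorProduct.lift g₀ (actPts ρ h₀ p₀) (fun _ _ => Commute.all _ _) (ρ r)
        show Algebra.TensorProduct.map (AlgHom.id k A) (orbitK ρ r₀)
          (Algebra.TensorProduct.assoc k k k A R K ((ρ r) ⊗ₜ 1)) = _
        induction ρ r using TensorProduct.induction_on with
        | zero => simp
        | add x y hx hy => simp only [TensorProduct.add_tmul, map_add, hx, hy]
        | tmul a x =>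
          rw [lift_tmul]
          have hxe : actPts ρ h₀ p₀ x = (1 : A) ⊗ₜ[k] orbit ρ r₀ x := by
            show Algebra.TensorProduct.lift h₀ p₀ (fun _ _ => Commute.all _ _) (ρ x) = _
            exact AlgHom.congr_fun (Algebra.TensorProduct.ext' fun a y => by simp [h₀, p₀] :
              (Algebra.TensorProduct.lift h₀ p₀ fun _ _ => Commute.all _ _) =
                includeRight.comp (Algebra.TensorProduct.map (AlgHom.id k A) r₀)) (ρ x)
          rw [hxe]
          simp [g₀, orbitK, ← Algebra.TensorProduct.one_def]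
      · refine AlgHom.ext fun r => ?_
        show Algebra.TensorProduct.lift (toConv g₀ * toConv h₀).ofConv p₀ (fun _ _ => Commute.all _ _) (ρ r) = F₂ (r ⊗ₜ 1)
        show _ = (Algebra.TensorProduct.assoc k k k A A K)
          (Algebra.TensorProduct.map (Bialgebra.comulAlgHom k A) (AlgHom.id k K) (orbitK ρ r₀ (r ⊗ₜ 1)))
        simp only [orbitK, lift_tmul, map_one, _root_.mul_one]
        show _ = (Algebra.TensorProduct.assoc k k k A A K)
          (Algebra.TensorProduct.map (Bialgebra.comulAlgHom k A) (AlgHom.id k K)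
            (Algebra.TensorProduct.map (AlgHom.id k A) r₀ (ρ r)))
        induction ρ r using TensorProduct.induction_on with
        | zero => simp
        | add x y hx hy => simp only [map_add, hx, hy]
        | tmul a x =>
          simp only [lift_tmul, Algebra.TensorProduct.map_tmul, AlgHom.id_apply, Bialgebra.comulAlgHom_apply]
          show (toConv g₀ * toConv h₀) a * p₀ x = _
          rw [AlgHom.convMul_apply]
          induction Coalgebra.comul (R := k) a using TensorProduct.induction_on with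
          | zero => simp
          | add s t hs ht => simp only [map_add, TensorProduct.add_tmul, add_mul, hs, ht]
          | tmul s t => simp [g₀, h₀, p₀]
    · exact AlgHom.ext fun c => by simp [F₁, F₂, orbitK, Algebra.TensorProduct.one_def]
  have hnat : ∀ v : R ⊗[k] K, (orbitK ρ r₀).toLinearMap.lTensor Q
      (TensorProduct.assoc k Q R K (l.rTensor K v)) = mQ.rTensor (A ⊗[k] K) (F₁ v) := by
    intro v
    induction v using TensorProduct.induction_on with
    | zero => simp
    | add x y hx hy => simp only [map_add, hx, hy]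
    | tmul r c =>
      show (orbitK ρ r₀).toLinearMap.lTensor Q (TensorProduct.assoc k Q R K ((mQ.rTensor R (ρ r)) ⊗ₜ c)) =
        mQ.rTensor (A ⊗[k] K) (Algebra.TensorProduct.map (AlgHom.id k A) (orbitK ρ r₀)
          (Algebra.TensorProduct.assoc k k k A R K ((ρ r) ⊗ₜ c)))
      induction ρ r using TensorProduct.induction_on with
      | zero => simp
      | add x y hx hy => simp only [map_add, TensorProduct.add_tmul, hx, hy]
      | tmul a x => simp
  have hinj : Function.Injective (fun v => (orbitK ρ r₀).toLinearMap.lTensor Q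
      (TensorProduct.assoc k Q R K v)) :=
    (Module.Flat.lTensor_preserves_injective_linearMap (orbitK ρ r₀).toLinearMap
      (bijective_orbitK ρ r₀ h).1).comp (TensorProduct.assoc k Q R K).injective
  apply hinj
  show _ = (orbitK ρ r₀).toLinearMap.lTensor Q (TensorProduct.assoc k Q R K 0)
  rw [map_zero, map_zero]
  refine (hnat w).trans ?_
  rw [hF]
  show mQ.rTensor (A ⊗[k] K) ((Algebra.TensorProduct.assoc k k k A A K)
    (Algebra.TensorProduct.map (Bialgebra.comulAlgHom k A) (AlgHom.id k K) (orbitK ρ r₀ w))) = 0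
  rw [hw]
  clear hw
  induction z using TensorProduct.induction_on with
  | zero => simp
  | add x y hx hy => simp only [map_add, hx, hy, add_zero]
  | tmul b c =>
    obtain ⟨d, hd⟩ := hB.1 b b.2
    simp only [Algebra.TensorProduct.map_tmul, Subalgebra.coe_val, AlgHom.id_apply, Bialgebra.comulAlgHom_apply]
    rw [← hd]
    clear hd
    induction d using TensorProduct.induction_on with
    | zero => simp
    | add x y hx hy => simp only [map_add, TensorProduct.add_tmul, hx, hy, add_zero]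
    | tmul s t =>
      have hs : mQ (s : A) = 0 := (Submodule.Quotient.mk_eq_zero _).2 s.2
      simp [hs]

/-- A subalgebra whose orbit image contains `B ⊗ K` contains the part of `R` belonging to `B`. -/
theorem part_le (h : IsCotorsor ρ) {B : Subalgebra k A} (T : Subalgebra k R)
    (hT : ∀ b ∈ B, b ⊗ₜ[k] (1 : K) ∈
      (Algebra.TensorProduct.map T.val (AlgHom.id k K)).range.map (orbitK ρ r₀)) :
    part ρ B ≤ T := by
  intro r hr
  let W := (Algebra.TensorProduct.map T.val (AlgHom.id k K)).range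
  have hB : (Algebra.TensorProduct.map B.val (AlgHom.id k K)).range ≤ W.map (orbitK ρ r₀) := by
    rintro _ ⟨z, rfl⟩
    induction z using TensorProduct.induction_on with
    | zero => rw [map_zero]; exact zero_mem _
    | add x y hx hy => rw [map_add]; exact add_mem hx hy
    | tmul b c =>
      have hc : (1 : A) ⊗ₜ[k] c ∈ W.map (orbitK ρ r₀) :=
        ⟨(1 : R) ⊗ₜ c, ⟨(1 : ↥T) ⊗ₜ c, by simp⟩, by simp [orbitK]⟩
      have := mul_mem (hT b b.2) hc
      rw [tmul_mul_tmul, _root_.mul_one, _root_.one_mul] at this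
      show (Algebra.TensorProduct.map B.val (AlgHom.id k K)) (b ⊗ₜ[k] c) ∈ _
      rw [Algebra.TensorProduct.map_tmul]
      exact this
  obtain ⟨v, hv, hve⟩ := hB (orbit_mem ρ r₀ hr)
  have hvr : v = r ⊗ₜ 1 := (bijective_orbitK ρ r₀ h).1 (by
    rw [show orbitK ρ r₀ (r ⊗ₜ 1) = orbit ρ r₀ r by simp [orbitK, ← Algebra.TensorProduct.one_def]]
    exact hve)
  subst hvr
  obtain ⟨t, ht⟩ := hv
  let mQ := (Subalgebra.toSubmodule T).mkQ
  have h0 : mQ r ⊗ₜ[k] (1 : K) = 0 := by
    have e : ∀ t : ↥T ⊗[k] K, mQ.rTensor K (Algebra.TensorProduct.map T.val (AlgHom.id k K) t) = 0 := by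
      intro t
      induction t using TensorProduct.induction_on with
      | zero => simp
      | add x y hx hy => simp only [map_add, hx, hy, add_zero]
      | tmul s c =>
        have hs : mQ (s : R) = 0 := (Submodule.Quotient.mk_eq_zero _).2 s.2
        simp [hs]
    have := e t
    rw [show Algebra.TensorProduct.map T.val (AlgHom.id k K) t = r ⊗ₜ 1 from ht] at this
    simpa using this
  have hinj := Module.Flat.lTensor_preserves_injective_linearMap (M := R ⧸ Subalgebra.toSubmodule T)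
    (Algebra.linearMap k K) (algebraMap k K).injective
  have h1 : mQ r ⊗ₜ[k] (1 : k) = 0 := hinj (by simpa using h0)
  have h2 := congrArg (TensorProduct.rid k _) h1
  simp only [TensorProduct.rid_tmul, one_smul, map_zero] at h2
  exact (Submodule.Quotient.mk_eq_zero _).1 h2

theorem part_mono {B C : Subalgebra k A} (hle : B ≤ C) : part ρ B ≤ part ρ C := by
  rintro r ⟨z, hz⟩
  refine ⟨Algebra.TensorProduct.map (Subalgebra.inclusion hle) (AlgHom.id k R) z, Eq.trans ?_ hz⟩
  exact AlgHom.congr_fun (Algebra.TensorProduct.ext' fun a x => by simp :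
    (Algebra.TensorProduct.map C.val (AlgHom.id k R)).comp
        (Algebra.TensorProduct.map (Subalgebra.inclusion hle) (AlgHom.id k R)) =
      Algebra.TensorProduct.map B.val (AlgHom.id k R)) z

include r₀ in
theorem part_sup (h : IsCotorsor ρ) {B C : Subalgebra k A} (hB : SGA3.IsHopfSubalgebra k A B)
    (hC : SGA3.IsHopfSubalgebra k A C) : part ρ (B ⊔ C) = part ρ B ⊔ part ρ C := by
  refine le_antisymm ?_ (sup_le (part_mono ρ le_sup_left) (part_mono ρ le_sup_right))
  refine part_le ρ r₀ h _ fun b hb => ?_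
  let W := ((Algebra.TensorProduct.map (part ρ B ⊔ part ρ C).val (AlgHom.id k K)).range.map
    (orbitK ρ r₀)).comap (includeLeft : A →ₐ[k] A ⊗[k] K)
  suffices B ⊔ C ≤ W from this hb
  have key : ∀ D : Subalgebra k A, SGA3.IsHopfSubalgebra k A D →
      part ρ D ≤ part ρ B ⊔ part ρ C → D ≤ W := by
    intro D hD hle d hd
    obtain ⟨w, hw⟩ := exists_part_tensor ρ r₀ h hD ((⟨d, hd⟩ : ↥D) ⊗ₜ 1)
    refine ⟨_, ⟨Algebra.TensorProduct.map (Subalgebra.inclusion hle) (AlgHom.id k K) w, rfl⟩, ?_⟩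
    refine Eq.trans ?_ (hw.trans (by simp))
    refine congrArg (orbitK ρ r₀) ?_
    exact AlgHom.congr_fun (Algebra.TensorProduct.ext' fun a x => by simp :
      (Algebra.TensorProduct.map (part ρ B ⊔ part ρ C).val (AlgHom.id k K)).comp
          (Algebra.TensorProduct.map (Subalgebra.inclusion hle) (AlgHom.id k K)) =
        Algebra.TensorProduct.map (part ρ D).val (AlgHom.id k K)) w
  exact sup_le (key B hB le_sup_left) (key C hC le_sup_right)

include r₀ in
theorem fg_part (h : IsCotorsor ρ) {B : Subalgebra k A} (hB : SGA3.IsHopfSubalgebra k A B)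
    (hfg : B.FG) : (part ρ B).FG := by
  classical
  obtain ⟨s, hs⟩ := hfg
  have hsB : ∀ b : s, (b : A) ∈ B := fun b => hs ▸ Algebra.subset_adjoin b.2
  choose w hw using fun b : s => exists_part_tensor ρ r₀ h hB ((⟨b, hsB b⟩ : ↥B) ⊗ₜ (1 : K))
  choose t ht using fun b : s => TensorProduct.exists_finset (w b)
  let S : Set R := ⋃ b : s, (fun q : ↥(part ρ B) × K => (q.1 : R)) '' ↑(t b)
  have hS : S.Finite := Set.finite_iUnion fun b => (t b).finite_toSet.image _
  have hle : Algebra.adjoin k S ≤ part ρ B := Algebra.adjoin_le (by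
    intro x hx
    obtain ⟨b, q, -, rfl⟩ := Set.mem_iUnion.1 hx
    exact q.1.2)
  refine (le_antisymm hle (part_le ρ r₀ h _ fun a ha => ?_) : Algebra.adjoin k S = part ρ B) ▸
    Subalgebra.fg_def.2 ⟨S, hS, rfl⟩
  let W := ((Algebra.TensorProduct.map (Algebra.adjoin k S).val (AlgHom.id k K)).range.map
    (orbitK ρ r₀)).comap (includeLeft : A →ₐ[k] A ⊗[k] K)
  suffices Algebra.adjoin k (↑s : Set A) ≤ W from this (hs ▸ ha)
  refine Algebra.adjoin_le fun b hb => ?_
  refine ⟨Algebra.TensorProduct.map (part ρ B).val (AlgHom.id k K) (w ⟨b, hb⟩), ?_, (hw ⟨b, hb⟩).trans (by simp)⟩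
  rw [ht ⟨b, hb⟩, map_sum]
  refine sum_mem fun q hq => ?_
  exact ⟨(⟨(q.1 : R), Algebra.subset_adjoin (Set.mem_iUnion.2 ⟨⟨b, hb⟩, q, hq, rfl⟩)⟩ :
    ↥(Algebra.adjoin k S)) ⊗ₜ q.2, by simp⟩

include r₀ in
/-- A point of `part ρ B` generates a proper ideal of `R`. -/
theorem map_ker_ne_top (h : IsCotorsor ρ) {B : Subalgebra k A} (hB : SGA3.IsHopfSubalgebra k A B)
    (x : ↥(part ρ B) →ₐ[k] k) : (RingHom.ker x).map (part ρ B).val ≠ ⊤ := by
  let ιB := Algebra.TensorProduct.map B.val (AlgHom.id k K)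
  have hιB : Function.Injective ιB :=
    HopfSub.map_injective _ _ Subtype.val_injective fun _ _ e => e
  let ιR := Algebra.TensorProduct.map (part ρ B).val (AlgHom.id k K)
  have hιR : Function.Injective ιR :=
    HopfSub.map_injective _ _ Subtype.val_injective fun _ _ e => e
  have hmem : ∀ w, ((orbitK ρ r₀).comp ιR) w ∈ ιB.range := by
    intro w
    induction w using TensorProduct.induction_on with
    | zero => rw [map_zero]; exact zero_mem _
    | add a b ha hb => rw [map_add]; exact add_mem ha hb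
    | tmul r c =>
      have hc : (1 : A) ⊗ₜ[k] c ∈ ιB.range := ⟨(1 : ↥B) ⊗ₜ c, by simp [ιB]⟩
      have := mul_mem (orbit_mem ρ r₀ r.2) hc
      simpa [ιR, ιB, orbitK] using this
  let θ : ↥(part ρ B) ⊗[k] K →ₐ[k] ↥B ⊗[k] K :=
    (AlgEquiv.ofInjective ιB hιB).symm.toAlgHom.comp (((orbitK ρ r₀).comp ιR).codRestrict ιB.range hmem)
  have hθ : ∀ w, ιB (θ w) = orbitK ρ r₀ (ιR w) := fun w =>
    congrArg Subtype.val ((AlgEquiv.ofInjective ιB hιB).apply_symm_apply
      ((((orbitK ρ r₀).comp ιR).codRestrict ιB.range hmem) w))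
  have hbij : Function.Bijective θ := by
    refine ⟨fun a b hab => hιR ((bijective_orbitK ρ r₀ h).1 ?_), fun z => ?_⟩
    · rw [← hθ, ← hθ, hab]
    · obtain ⟨w, hw⟩ := exists_part_tensor ρ r₀ h hB z
      exact ⟨w, hιB ((hθ w).trans hw)⟩
  let e := AlgEquiv.ofBijective θ hbij
  let χ : ↥B ⊗[k] K →ₐ[k] K :=
    (Algebra.TensorProduct.lift ((Algebra.ofId k K).comp x) (AlgHom.id k K)
      fun _ _ => Commute.all _ _).comp e.symm.toAlgHom
  have hχ : ∀ c : K, χ (1 ⊗ₜ c) = c := by
    intro c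
    have e1 : θ (1 ⊗ₜ c) = 1 ⊗ₜ c := hιB (by rw [hθ]; simp [ιR, ιB, orbitK])
    have e2 : e.symm (1 ⊗ₜ c) = 1 ⊗ₜ c := (AlgEquiv.symm_apply_eq _).2 e1.symm
    show Algebra.TensorProduct.lift ((Algebra.ofId k K).comp x) (AlgHom.id k K) (fun _ _ => Commute.all _ _) (e.symm (1 ⊗ₜ c)) = c
    simp [e2]
  let y : ↥B →ₐ[k] K := χ.comp includeLeft
  letI : Algebra ↥B K := y.toRingHom.toAlgebra
  haveI := Groth.Agent.S4103.result k A B hB
  haveI : Nontrivial (A ⊗[↥B] K) := Module.FaithfullyFlat.lTensor_nontrivial ↥B A K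
  obtain ⟨M, hM⟩ := Ideal.exists_maximal (A ⊗[↥B] K)
  let L := (A ⊗[↥B] K) ⧸ M
  letI : CommRing L := Ideal.Quotient.commRing M
  haveI : Nontrivial L := Ideal.Quotient.nontrivial_iff.2 hM.ne_top
  let Yr : A →+* L := (Ideal.Quotient.mk M).comp
    (Algebra.TensorProduct.includeLeftRingHom : A →+* A ⊗[↥B] K)
  let jr : K →+* L := (Ideal.Quotient.mk M).comp
    (Algebra.TensorProduct.includeRight : K →ₐ[↥B] A ⊗[↥B] K).toRingHom
  have hYj : ∀ b : ↥B, Yr b = jr (y b) := fun b =>
    congrArg (Ideal.Quotient.mk M) ((Algebra.TensorProduct.includeRight :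
      K →ₐ[↥B] A ⊗[↥B] K).commutes b).symm
  let Y : A →ₐ[k] L := { Yr with commutes' := fun c => rfl }
  let j : K →ₐ[k] L :=
    { jr with
      commutes' := fun c => by
        show jr (algebraMap k K c) = Yr (algebraMap k A c)
        rw [show (algebraMap k A c) = ((algebraMap k ↥B c : ↥B) : A) from rfl, hYj, AlgHom.commutes] }
  let Mh : A ⊗[k] K →ₐ[k] L := Algebra.TensorProduct.lift Y j fun _ _ => Commute.all _ _
  have hM' : Mh.comp ιB = j.comp χ := by
    refine Algebra.TensorProduct.ext ?_ ?_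
    · refine AlgHom.ext fun b => ?_
      show Mh (ιB (b ⊗ₜ 1)) = j (χ (b ⊗ₜ 1))
      rw [show ιB (b ⊗ₜ 1) = (b : A) ⊗ₜ 1 by simp [ιB]]
      rw [lift_tmul, map_one, _root_.mul_one]
      exact hYj b
    · refine AlgHom.ext fun c => ?_
      show Mh (ιB (1 ⊗ₜ c)) = j (χ (1 ⊗ₜ c))
      rw [hχ]
      simp [ιB, Mh]
  intro htop
  have hsub : (RingHom.ker x).map (part ρ B).val ≤ RingHom.ker (Mh.comp (orbit ρ r₀)) := by
    refine Ideal.map_le_iff_le_comap.2 fun r hr => ?_
    show Mh (orbit ρ r₀ r) = 0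
    have e1 : orbit ρ r₀ r = ιB (θ (r ⊗ₜ 1)) := by
      rw [hθ]; simp [ιR, orbitK, ← Algebra.TensorProduct.one_def]
    rw [e1]
    refine (AlgHom.congr_fun hM' _).trans ?_
    show j (Algebra.TensorProduct.lift ((Algebra.ofId k K).comp x) (AlgHom.id k K) (fun _ _ => Commute.all _ _) (e.symm (θ (r ⊗ₜ 1)))) = 0
    rw [show e.symm (θ (r ⊗ₜ 1)) = r ⊗ₜ 1 from e.symm_apply_apply _]
    simp [show x r = 0 from hr]
  rw [htop, top_le_iff] at hsub
  exact RingHom.ker_ne_top (Mh.comp (orbit ρ r₀)).toRingHom hsub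

/-- Extension of a point along a finitely generated enlargement. -/
theorem exists_extend_alg [IsAlgClosed k] {P D : Subalgebra k R} (hD : D.FG) (x : ↥P →ₐ[k] k)
    (hx : (RingHom.ker x).map P.val ≠ ⊤) :
    ∃ y : ↥(P ⊔ D) →ₐ[k] k, ∀ (a : R) (ha : a ∈ P), y ⟨a, (le_sup_left : P ≤ P ⊔ D) ha⟩ = x ⟨a, ha⟩ := by
  let T := P ⊔ D
  let i : ↥P →ₐ[k] ↥T := Subalgebra.inclusion le_sup_left
  let I : Ideal ↥T := (RingHom.ker x).map i
  have hI : I ≠ ⊤ := by
    intro htop
    have h1 : ((RingHom.ker x).map i).map T.val = ⊤ := by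
      rw [show (RingHom.ker x).map i = I from rfl, htop, Ideal.map_top]
    rw [Ideal.map_mapₐ] at h1
    exact hx h1
  obtain ⟨M, hM, hIM⟩ := Ideal.exists_le_maximal I hI
  let q : ↥T →ₐ[k] ↥T ⧸ M := Ideal.Quotient.mkₐ k M
  letI := Ideal.Quotient.field M
  let qD : ↥D →ₐ[k] ↥T ⧸ M := q.comp (Subalgebra.inclusion le_sup_right)
  have hqP : ∀ b : ↥P, q (i b) = algebraMap k _ (x b) := by
    intro b
    have hb : i b - algebraMap k ↥T (x b) ∈ M := hIM (by
      have : i (b - algebraMap k ↥P (x b)) ∈ I := Ideal.mem_map_of_mem _ (by simp [RingHom.mem_ker])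
      simpa [AlgHom.commutes] using this)
    rw [← q.commutes]
    exact Ideal.Quotient.eq.2 hb
  have hsurj : Function.Surjective qD := by
    intro z
    obtain ⟨⟨t, ht⟩, rfl⟩ := Ideal.Quotient.mk_surjective z
    have hle : T ≤ ((qD.range.comap q).map T.val) := by
      refine sup_le ?_ ?_
      · intro b hb
        refine ⟨i ⟨b, hb⟩, ?_, rfl⟩
        show q (i ⟨b, hb⟩) ∈ qD.range
        rw [hqP]
        exact qD.range.algebraMap_mem _
      · intro c hc
        exact ⟨Subalgebra.inclusion le_sup_right ⟨c, hc⟩, ⟨⟨c, hc⟩, rfl⟩, rfl⟩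
    obtain ⟨w, hw, hwt⟩ := hle ht
    obtain rfl : w = ⟨t, ht⟩ := Subtype.ext hwt
    exact hw
  haveI : Algebra.FiniteType k ↥D := (Subalgebra.fg_iff_finiteType D).1 hD
  haveI : Algebra.FiniteType k (↥T ⧸ M) := Algebra.FiniteType.of_surjective qD hsurj
  haveI : Module.Finite k (↥T ⧸ M) := finite_of_finite_type_of_isJacobsonRing k (↥T ⧸ M)
  let e : k ≃ₐ[k] (↥T ⧸ M) :=
    AlgEquiv.ofBijective (Algebra.ofId k (↥T ⧸ M)) IsAlgClosed.algebraMap_bijective_of_isIntegral
  refine ⟨e.symm.toAlgHom.comp q, fun a ha => ?_⟩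
  show e.symm (q (i ⟨a, ha⟩)) = _
  rw [hqP]
  exact e.symm.commutes _

theorem part_top : part ρ (⊤ : Subalgebra k A) = ⊤ := by
  refine top_unique fun r _ => ?_
  refine ⟨Algebra.TensorProduct.map (Subalgebra.topEquiv (R := k) (A := A)).symm.toAlgHom (AlgHom.id k R) (ρ r), ?_⟩
  exact AlgHom.congr_fun (Algebra.TensorProduct.ext' fun a x => by simp :
    (Algebra.TensorProduct.map (⊤ : Subalgebra k A).val (AlgHom.id k R)).comp
        (Algebra.TensorProduct.map (Subalgebra.topEquiv (R := k) (A := A)).symm.toAlgHom (AlgHom.id k R)) =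
      AlgHom.id k _) (ρ r)

/-- A torsor under an affine group over an algebraically closed field has a rational point. -/
theorem exists_point [IsAlgClosed k] [Nontrivial R] (h : IsCotorsor ρ) : Nonempty (R →ₐ[k] k) := by
  classical
  obtain ⟨m, hm⟩ := Ideal.exists_maximal R
  letI := Ideal.Quotient.field m
  let r₀ : R →ₐ[k] R ⧸ m := Ideal.Quotient.mkₐ k m
  let P : Set (Subalgebra k A × Subalgebra k (R × k)) := {z | SGA3.IsHopfSubalgebra k A z.1 ∧
    (∀ w ∈ z.2, w.1 = 0 → w.2 = 0) ∧ z.2.map (AlgHom.fst k R k) = part ρ z.1}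
  have mk : ∀ {C : Subalgebra k A}, SGA3.IsHopfSubalgebra k A C → ∀ y : ↥(part ρ C) →ₐ[k] k,
      (C, ((part ρ C).val.prod y).range) ∈ P := by
    intro C hC y
    refine ⟨hC, ?_, ?_⟩
    · rintro _ ⟨b, rfl⟩ (hb : (b : R) = 0)
      show y b = 0
      rw [show b = 0 from Subtype.ext hb, map_zero]
    · show (((part ρ C).val.prod y).range).map _ = _
      rw [← AlgHom.range_comp, AlgHom.fst_prod, Subalgebra.range_val]
  obtain ⟨z₀, hz₀⟩ : P.Nonempty := by
    have hb := isHopf_bot (k := k) (A := A)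
    obtain ⟨y, -⟩ := exists_extend_alg (P := (⊥ : Subalgebra k R)) (fg_part ρ r₀ h hb Subalgebra.fg_bot)
      (Algebra.botEquiv k R).toAlgHom (by
        rw [show RingHom.ker (Algebra.botEquiv k R).toAlgHom = ⊥ from
          (RingHom.injective_iff_ker_eq_bot _).1 (Algebra.botEquiv k R).injective, Ideal.map_bot]
        exact bot_ne_top)
    exact ⟨_, mk hb (y.comp (Subalgebra.inclusion le_sup_right))⟩
  obtain ⟨⟨C, Γ⟩, -, hmax⟩ := zorn_le_nonempty₀ P (fun c hc hchain z₁ hz₁ => by
    haveI : Nonempty c := ⟨⟨z₁, hz₁⟩⟩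
    have hd1 : Directed (· ≤ ·) fun z : c => (z : Subalgebra k A × Subalgebra k (R × k)).1 :=
      fun a b => let ⟨d, hda, hdb⟩ := hchain.directed a b; ⟨d, hda.1, hdb.1⟩
    have hd2 : Directed (· ≤ ·) fun z : c => (z : Subalgebra k A × Subalgebra k (R × k)).2 :=
      fun a b => let ⟨d, hda, hdb⟩ := hchain.directed a b; ⟨d, hda.2, hdb.2⟩
    let C' := ⨆ z : c, (z : Subalgebra k A × Subalgebra k (R × k)).1
    let Γ' := ⨆ z : c, (z : Subalgebra k A × Subalgebra k (R × k)).2
    refine ⟨(C', Γ'), ⟨?_, ?_, ?_⟩, fun z hz =>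
      ⟨le_iSup (fun z : c => (z : Subalgebra k A × Subalgebra k (R × k)).1) ⟨z, hz⟩,
        le_iSup (fun z : c => (z : Subalgebra k A × Subalgebra k (R × k)).2) ⟨z, hz⟩⟩⟩
    · have e : C' = Algebra.adjoin k (⋃ z : c, ((z : Subalgebra k A × Subalgebra k (R × k)).1 : Set A)) := by
        rw [Algebra.adjoin_iUnion]
        simp only [Algebra.adjoin_eq]
        rfl
      show SGA3.IsHopfSubalgebra k A C'
      rw [e]
      exact isHopf_adjoin_iUnion _ fun z => (hc z.2).1
    · intro w hw hw0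
      rw [← SetLike.mem_coe, show ((C', Γ').2 : Subalgebra k (R × k)) = Γ' from rfl,
        Subalgebra.coe_iSup_of_directed hd2] at hw
      obtain ⟨⟨z, hz⟩, hw⟩ := Set.mem_iUnion.1 hw
      exact (hc hz).2.1 w hw hw0
    · have e : Γ'.map (AlgHom.fst k R k) = ⨆ z : c, part ρ (z : Subalgebra k A × Subalgebra k (R × k)).1 :=
        (Subalgebra.gc_map_comap (AlgHom.fst k R k)).l_iSup.trans (iSup_congr fun z => (hc z.2).2.2)
      show Γ'.map (AlgHom.fst k R k) = part ρ C'
      rw [e]
      refine le_antisymm (iSup_le fun z => part_mono ρ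
        (le_iSup (fun z : c => (z : Subalgebra k A × Subalgebra k (R × k)).1) z)) fun r hr => ?_
      obtain ⟨w, hw⟩ := hr
      have : ∀ w : ↥C' ⊗[k] R, ∃ z : c, Algebra.TensorProduct.map C'.val (AlgHom.id k R) w ∈
          (Algebra.TensorProduct.map (z : Subalgebra k A × Subalgebra k (R × k)).1.val (AlgHom.id k R)).range := by
        intro w
        induction w using TensorProduct.induction_on with
        | zero => exact ⟨Classical.arbitrary _, by rw [map_zero]; exact zero_mem _⟩
        | tmul a x =>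
          have ha := a.2
          rw [← SetLike.mem_coe, Subalgebra.coe_iSup_of_directed hd1] at ha
          obtain ⟨z, hz⟩ := Set.mem_iUnion.1 ha
          exact ⟨z, (⟨a, hz⟩ : ↥(z : Subalgebra k A × Subalgebra k (R × k)).1) ⊗ₜ x, by simp⟩
        | add x y hx hy =>
          obtain ⟨z₂, hx⟩ := hx
          obtain ⟨z₃, hy⟩ := hy
          obtain ⟨z₄, h₂, h₃⟩ := hd1 z₂ z₃
          have up : ∀ {B₁ B₂ : Subalgebra k A}, B₁ ≤ B₂ →
              (Algebra.TensorProduct.map B₁.val (AlgHom.id k R)).range ≤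
                (Algebra.TensorProduct.map B₂.val (AlgHom.id k R)).range := fun {B₁ B₂} hB => by
            rintro _ ⟨v, rfl⟩
            exact ⟨Algebra.TensorProduct.map (Subalgebra.inclusion hB) (AlgHom.id k R) v,
              AlgHom.congr_fun (Algebra.TensorProduct.ext' fun a x => by simp :
                (Algebra.TensorProduct.map B₂.val (AlgHom.id k R)).comp
                    (Algebra.TensorProduct.map (Subalgebra.inclusion hB) (AlgHom.id k R)) =
                  Algebra.TensorProduct.map B₁.val (AlgHom.id k R)) v⟩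
          exact ⟨z₄, by rw [map_add]; exact add_mem (up h₂ hx) (up h₃ hy)⟩
      obtain ⟨z, hz⟩ := this w
      exact le_iSup (fun z : c => part ρ (z : Subalgebra k A × Subalgebra k (R × k)).1) z
        (show ρ r ∈ (Algebra.TensorProduct.map (z : Subalgebra k A × Subalgebra k (R × k)).1.val
          (AlgHom.id k R)).range from (show _ = ρ r from hw) ▸ hz)) z₀ hz₀
  obtain ⟨⟨hC, hfun, hΓ⟩, hmaxl⟩ := hmax
  change Γ.map (AlgHom.fst k R k) = part ρ C at hΓ
  let π : ↥Γ →ₐ[k] R := (AlgHom.fst k R k).comp Γ.val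
  have hπinj : Function.Injective π := by
    intro a b hab
    have hd : ((a : R × k) - b).1 = 0 := by
      rw [Prod.fst_sub]; exact sub_eq_zero.2 hab
    exact Subtype.ext (Prod.ext hab (sub_eq_zero.1 (by simpa using hfun _ (sub_mem a.2 b.2) hd)))
  have hπr : π.range = part ρ C := by
    rw [← hΓ]
    show ((AlgHom.fst k R k).comp Γ.val).range = _
    rw [AlgHom.range_comp, Subalgebra.range_val]
  let eC : ↥Γ ≃ₐ[k] ↥(part ρ C) :=
    (AlgEquiv.ofInjective π hπinj).trans (Subalgebra.equivOfEq _ _ hπr)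
  let x : ↥(part ρ C) →ₐ[k] k := ((AlgHom.snd k R k).comp Γ.val).comp eC.symm.toAlgHom
  have htop : C = ⊤ := by
    refine top_unique fun a _ => ?_
    obtain ⟨D, hD, hDfg, haD⟩ := exists_fg_of_finite (k := k) {a} (Set.finite_singleton a)
    obtain ⟨y, hy⟩ := exists_extend_alg (fg_part ρ r₀ h hD hDfg) x (map_ker_ne_top ρ r₀ h hC x)
    have e : part ρ (C ⊔ D) = part ρ C ⊔ part ρ D := part_sup ρ r₀ h hC hD
    let y' : ↥(part ρ (C ⊔ D)) →ₐ[k] k := y.comp (Subalgebra.equivOfEq _ _ e).toAlgHom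
    have hle : Γ ≤ ((part ρ (C ⊔ D)).val.prod y').range := by
      intro w hw
      have hwC : w.1 ∈ part ρ C := hΓ ▸ ⟨w, hw, rfl⟩
      refine ⟨⟨w.1, part_mono ρ le_sup_left hwC⟩, Prod.ext rfl ?_⟩
      show y _ = w.2
      refine (hy _ hwC).trans ?_
      have h1 : eC.symm ⟨w.1, hwC⟩ = ⟨w, hw⟩ := (AlgEquiv.symm_apply_eq _).2 (Subtype.ext rfl)
      show ((eC.symm ⟨w.1, hwC⟩ : ↥Γ) : R × k).2 = w.2
      rw [h1]
    have h2 := hmaxl (mk (isHopf_sup hC hD) y') ⟨le_sup_left, hle⟩
    exact h2.1 ((le_sup_right : D ≤ C ⊔ D) (haD rfl))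
  subst htop
  exact ⟨x.comp ((AlgHom.id k R).codRestrict _ fun r => by rw [part_top]; trivial)⟩

end Groth.Agent.HopfPts
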