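import Groth.Agent.AffGrp.Bridge
import Groth.Agent.GITLib.TorsorSch
import Groth.Agent.HopfPts.Torsor

/-!
# Torsors under affine groups over a field as cotorsor algebras
-/

set_option autoImplicit false
set_option linter.style.haveILetI false
universe u

open CategoryTheory MonoidalCategory CartesianMonoidalCategory MonObj GrpObj AlgebraicGeometry
open scoped TensorProduct
open WithConv

namespace Groth.Agent.HopfPts.TorsorBridge

variable {k : Type u} [Field k]

local notation "Sk" => Spec (CommRingCat.of k)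

noncomputable abbrev SA (B : Type u) [CommRing B] [Algebra k B] : Over (Spec (CommRingCat.of k)) :=
  (Spec (CommRingCat.of B)).asOver (Spec (CommRingCat.of k))

/-- The morphism of spectra of an algebra map. -/
noncomputable def pt {B D : Type u} [CommRing B] [Algebra k B] [CommRing D] [Algebra k D]
    (f : B →ₐ[k] D) : SA (k := k) D ⟶ SA (k := k) B :=
  Over.homMk (Spec.map (CommRingCat.ofHom f.toRingHom)) (by
    show Spec.map _ ≫ Spec.map _ = Spec.map _
    rw [← Spec.map_comp, ← CommRingCat.ofHom_comp]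
    erw [f.comp_algebraMap])

theorem pt_injective {B D : Type u} [CommRing B] [Algebra k B] [CommRing D] [Algebra k D]
    {f g : B →ₐ[k] D} (h : pt f = pt g) : f = g := by
  have := Spec.map_injective (congrArg CommaMorphism.left h)
  exact AlgHom.coe_ringHom_injective (congrArg CommRingCat.Hom.hom this)

theorem pt_surjective {B D : Type u} [CommRing B] [Algebra k B] [CommRing D] [Algebra k D]
    (φ : SA (k := k) D ⟶ SA (k := k) B) : ∃ f : B →ₐ[k] D, pt f = φ := by
  let q : Spec (CommRingCat.of D) ⟶ Spec (CommRingCat.of B) := φ.left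
  have hq : q ≫ Spec.map (CommRingCat.ofHom (algebraMap k B)) =
      Spec.map (CommRingCat.ofHom (algebraMap k D)) := Over.w φ
  rw [← Spec.map_preimage q, ← Spec.map_comp] at hq
  refine ⟨{ (Spec.preimage q).hom with
    commutes' := fun r => RingHom.congr_fun (congrArg CommRingCat.Hom.hom (Spec.map_injective hq)) r },
    Over.OverMorphism.ext ?_⟩
  exact Spec.map_preimage q

theorem pt_comp {B D E : Type u} [CommRing B] [Algebra k B] [CommRing D] [Algebra k D] [CommRing E]
    [Algebra k E] (f : B →ₐ[k] D) (g : D →ₐ[k] E) : pt g ≫ pt f = pt (g.comp f) := by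
  refine Over.OverMorphism.ext ?_
  show Spec.map _ ≫ Spec.map _ = Spec.map _
  rw [← Spec.map_comp, ← CommRingCat.ofHom_comp]
  rfl

theorem pt_mul {B D : Type u} [CommRing B] [HopfAlgebra k B] [CommRing D] [Algebra k D]
    (f g : B →ₐ[k] D) : pt (toConv f * toConv g).ofConv = pt f * pt g :=
  (Spec.mapMulEquiv (R := k) (S := B) (T := D)).map_mul (toConv f) (toConv g)

theorem exists_section [IsAlgClosed k] {A : CommRingCat.{u}} [HopfAlgebra k A]
    {G : Over Sk} [GrpObj G] [IsAffine G.left] (eG : SA (k := k) A ≅ G) [IsMonHom eG.hom]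
    {P : Over Sk} (a : AlgGrp.Action G P)
    (hP : NonAbH1.IsTorsorFor Scheme.fpqcPrecoverage a) :
    Nonempty (𝟙_ (Over Sk) ⟶ P) := by
  have hGa : IsAffineHom G.hom := inferInstance
  haveI : MorphismProperty.DescendsAlong @IsAffineHom AlgSpCov.Fpqc.{u} := FpqcDesc.descendsAlong_isAffineHom
  haveI : IsAffineHom P.hom := GITLib.property_of_torsor (a := a) @IsAffineHom hP hGa
  haveI : IsAffine P.left := isAffine_of_isAffineHom P.hom
  letI : Algebra k Γ(P.left, ⊤) := (Spec.preimage (P.left.isoSpec.inv ≫ P.hom)).hom.toAlgebra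
  let R : Type u := Γ(P.left, ⊤)
  let eP : P ≅ SA (k := k) R := Over.isoMk P.left.isoSpec (by
    show P.left.isoSpec.hom ≫ Spec.map (Spec.preimage (P.left.isoSpec.inv ≫ P.hom)) = P.hom
    rw [Spec.map_preimage, Iso.hom_inv_id_assoc])
  let gU : SA (k := k) (A ⊗[k] R) ⟶ G := pt (Algebra.TensorProduct.includeLeft : A →ₐ[k] A ⊗[k] R) ≫ eG.hom
  let pU : SA (k := k) (A ⊗[k] R) ⟶ P := pt (Algebra.TensorProduct.includeRight : R →ₐ[k] A ⊗[k] R) ≫ eP.inv
  obtain ⟨ρ, hρ⟩ := pt_surjective (lift gU pU ≫ a.act ≫ eP.hom)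
  have hact : ∀ (D : Type u) [CommRing D] [Algebra k D] (g : A →ₐ[k] D) (p : R →ₐ[k] D),
      pt (actPts ρ g p) ≫ eP.inv = lift (pt g ≫ eG.hom) (pt p ≫ eP.inv) ≫ a.act := by
    intro D _ _ g p
    unfold actPts
    rw [← pt_comp, hρ]
    simp only [Category.assoc, Iso.hom_inv_id, Category.comp_id, gU, pU]
    rw [comp_lift_assoc, ← Category.assoc (pt _) (pt _) eG.hom, pt_comp, ← Category.assoc (pt _) (pt _) eP.inv,
      pt_comp]
    have e1 : (Algebra.TensorProduct.lift g p fun _ _ => Commute.all _ _).comp (Algebra.TensorProduct.includeLeft : A →ₐ[k] A ⊗[k] R) = g := AlgHom.ext fun x => by simp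
    have e2 : (Algebra.TensorProduct.lift g p fun _ _ => Commute.all _ _).comp (Algebra.TensorProduct.includeRight : R →ₐ[k] A ⊗[k] R) = p := AlgHom.ext fun x => by simp
    rw [e1, e2]
  have hcot : IsCotorsor ρ := by
    constructor
    · intro D _ _ g h p
      apply pt_injective
      rw [← cancel_mono eP.inv, hact, hact, hact, pt_mul, MonObj.mul_comp, a.lift_mul_act]
    · intro D _ _ p q
      obtain ⟨φ, hφ, huniq⟩ := GITLib.existsUnique_diff hP.1 (pt p ≫ eP.inv) (pt q ≫ eP.inv)
      obtain ⟨g, hg⟩ := pt_surjective (φ ≫ eG.inv)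
      have hg' : pt g ≫ eG.hom = φ := by rw [hg, Category.assoc, Iso.inv_hom_id, Category.comp_id]
      refine ⟨g, pt_injective ?_, fun g' hg'' => pt_injective ?_⟩
      · rw [← cancel_mono eP.inv, hact, hg', hφ]
      · rw [← cancel_mono eG.hom, hg']
        refine huniq _ ?_
        show lift (pt g' ≫ eG.hom) (pt p ≫ eP.inv) ≫ a.act = pt q ≫ eP.inv
        rw [← hact, hg'']
  haveI : Nontrivial R := by
    obtain ⟨Rc, hRc, hs⟩ := hP.2
    obtain ⟨S', f, hf, y, -⟩ := hRc.2.1 (IsLocalRing.closedPoint k)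
    rcases hf with @⟨T', g, hg⟩
    obtain ⟨s, -⟩ := hs g hg
    exact PrimeSpectrum.nonempty_iff_nontrivial.1 ⟨(s ≫ P.left.isoSpec.hom).base y⟩
  obtain ⟨x⟩ := exists_point ρ hcot
  refine ⟨Over.homMk (U := 𝟙_ (Over Sk)) (V := SA (k := k) R) (Spec.map (CommRingCat.ofHom x.toRingHom)) ?_ ≫ eP.inv⟩
  show Spec.map (CommRingCat.ofHom x.toRingHom) ≫ Spec.map (CommRingCat.ofHom (algebraMap k R)) = 𝟙 _
  rw [← Spec.map_comp, ← CommRingCat.ofHom_comp]
  erw [x.comp_algebraMap]
  exact Spec.map_id _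

end Groth.Agent.HopfPts.TorsorBridge
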